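import Mathlib
import Cfsg.Agent.Lib.E83.Tor

/-!
# Fixed space dimensions of rational semisimple classes of `E₈(3)`
-/

set_option autoImplicit false
set_option maxRecDepth 100000

namespace CfsgLib.E83

variable {y : Fin 8 → ℤ} {f : ℕ → ℕ}

theorem chk2 : enum 2 3 0 (fun _ => true) (okc 2 [1] fun l => l ∈ [[120], [136], [248]]) = true := by decide +kernel

theorem Tor.d2 (h : Tor 2 3 y f) : f 1 = 120 ∨ f 1 = 136 ∨ f 1 = 248 := by
  simpa using h.enum chk2 (by decide) (by decide) (by decide) rfl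

theorem chk5 : enum 5 3 3 (fun _ => true) (okc 5 [1] fun l => l ∈ [[48], [68], [248]]) = true := by decide +kernel

theorem Tor.d5 (h : Tor 5 3 y f) : f 1 = 48 ∨ f 1 = 68 ∨ f 1 = 248 := by
  simpa using h.enum chk5 (by decide) (by decide) (by decide) rfl

theorem chk11 : enum 11 3 8 (fun _ => true) (okc 11 [1] fun l => l ∈ [[28], [248]]) = true := by decide +kernel

theorem Tor.d11 (h : Tor 11 3 y f) : f 1 = 28 ∨ f 1 = 248 := by
  simpa using h.enum chk11 (by decide) (by decide) (by decide) rfl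

theorem chk14 : enum 14 3 8 (fun _ => true)
    (okc 14 [7, 1] fun l => l.head? = some 120 → l ∈ [[120, 18], [120, 48], [120, 120]]) = true := by decide +kernel

theorem Tor.d14 (h : Tor 14 3 y f) (h1 : f 7 = 120) : f 1 = 18 ∨ f 1 = 48 ∨ f 1 = 120 := by
  simpa [h1] using h.enum chk14 (by decide) (by decide) (by decide) rfl

theorem chk26 : enum 26 3 8 (fun _ => true)
    (okc 26 [13, 2] fun l => l.head? = some 120 → l ∈ [[120, 20], [120, 38], [120, 80], [120, 248]]) = true := by
  decide +kernel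

theorem Tor.d26 (h : Tor 26 3 y f) (h1 : f 13 = 120) : f 2 = 20 ∨ f 2 = 38 ∨ f 2 = 80 ∨ f 2 = 248 := by
  simpa [h1] using h.enum chk26 (by decide) (by decide) (by decide) rfl

theorem chk31 : enum 31 3 8 (fun c => c % 30 == 0) (okc 31 [1] fun l => l ∈ [[8], [248]]) = true := by
  decide +kernel

theorem Tor.d31 (h : Tor 31 3 y f) : f 1 = 8 ∨ f 1 = 248 := by
  have h2 := h.modEq (by decide) (by decide) (by decide) (k₁ := 1) (k₂ := 0) (d := 30) (one_dvd _)
    [1] (by decide +kernel)
  rw [h.zero, Nat.ModEq, h.fx] at h2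
  simpa using h.enum chk31 (by decide) (by decide) (by decide) (by rw [h.fx]; simp; omega)

/-- the dimensions of the fixed spaces of an element of exponent eight, its square and its fourth power -/
def L8 : List (List ℕ) := [[30, 60, 120], [32, 60, 120], [32, 64, 120], [34, 66, 136], [34, 70, 136], [36, 70, 136],
  [38, 60, 120], [38, 70, 136], [40, 82, 136], [44, 92, 120], [48, 82, 136], [50, 66, 136], [52, 92, 120],
  [60, 120, 248], [64, 120, 248], [64, 134, 136], [66, 136, 248], [68, 92, 120], [70, 136, 248], [80, 82, 136],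
  [80, 134, 136], [82, 136, 248], [92, 120, 248], [120, 248, 248], [134, 136, 248], [136, 248, 248], [248, 248, 248]]

theorem chk8 : enum 8 3 0 (fun _ => true) (okc 8 [1, 2, 4] fun l => l ∈ L8) = true := by decide +kernel

theorem Tor.d8 (h : Tor 8 3 y f) : [f 1, f 2, f 4] ∈ L8 := by
  simpa using h.enum chk8 (by decide) (by decide) (by decide) rfl

theorem Tor.d121 (h : Tor 121 3 y f) : f 1 % 5 = 3 := by
  have h2 := h.modEq (by decide) (by decide) (by decide) (k₁ := 1) (k₂ := 0) (d := 5) (one_dvd _)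
    [1, 2, 4, 5, 7, 8, 10, 11, 13, 16, 17, 19, 20, 22, 25, 26, 31, 34, 35, 38, 40, 61, 67, 76] (by decide +kernel)
  rw [h.zero] at h2
  exact h2.symm

theorem Tor.m122 (h : Tor 122 3 y f) : f 61 % 5 = f 1 % 5 :=
  h.modEq (by decide) (by decide) (by decide) (one_dvd _) [2, 120, 4, 118, 8, 114, 10, 112, 16, 106, 20, 102] (by decide +kernel)

end CfsgLib.E83
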