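import Mathlib
import Cfsg.Agent.Lib.Semi.Alcove
import Cfsg.Agent.Lib.Semi.F4

/-!
# Enumeration of the points of the fundamental alcove of `E₈`
-/

set_option autoImplicit false

namespace CfsgLib.E83

open CfsgLib.RGD CfsgLib.Lang CfsgLib.Chev CfsgLib.Weyl CfsgLib.Semi Cfsg.Lie

/-- the root system of type `E₈` -/
abbrev Φ : RootSys (Fin 240) (Fin 8) := rootSys rtOKE8

/-- evaluate a number before continuing -/
noncomputable def force {α : Type} (n : ℕ) (k : ℕ → α) : α := Nat.rec (k 0) (fun m _ => k (Nat.succ m)) n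

theorem force_eq {α : Type} (n : ℕ) (k : ℕ → α) : force n k = k n := by cases n <;> rfl

/-- a finite sum -/
noncomputable def ssum (f : ℕ → ℕ) (n : ℕ) : ℕ := Nat.rec 0 (fun r s => Nat.add s (f r)) n

theorem ssum_eq (f : ℕ → ℕ) (n : ℕ) : ssum f n = ∑ r ∈ Finset.range n, f r := by
  induction n with
  | zero => rfl
  | succ n ih => rw [Finset.sum_range_succ, ← ih]; rfl

/-- a finite conjunction over `1, …, n` -/
noncomputable def all1 (p : ℕ → Bool) (n : ℕ) : Bool :=
  Nat.rec true (fun i b => Bool.rec false b (p (Nat.succ i))) n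

theorem all1_spec {p : ℕ → Bool} {n : ℕ} (h : all1 p n = true) {i : ℕ} (h0 : i ≠ 0) (hi : i ≤ n) : p i = true := by
  induction n with
  | zero => omega
  | succ n ih =>
    have e : all1 p (n + 1) = Bool.rec false (all1 p n) (p (n + 1)) := rfl
    rw [e] at h
    cases hp : p (n + 1) with
    | false => rw [hp] at h; exact absurd h (by simp)
    | true =>
      rw [hp] at h
      rcases Nat.lt_or_ge i (n + 1) with h1 | h1
      · exact ih h (by omega)
      · rwa [show i = n + 1 by omega]

/-- the range of one coordinate -/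
noncomputable def rng (b l : Bool) (t rem : ℕ) (k : ℕ → ℕ → Bool) : Bool :=
  Bool.rec (Bool.rec (all1 (fun s => force (Nat.sub rem (Nat.mul t s)) (k s)) (Nat.div rem t))
    (force (Nat.div rem t) fun s => force (Nat.mod rem t) (k s)) l) (k 0 rem) b

theorem rng_spec {b l : Bool} {t rem : ℕ} {k : ℕ → ℕ → Bool} (h : rng b l t rem k = true) (ht : 0 < t) {s : ℕ}
    (hb : b = decide (s = 0)) (h1 : t * s ≤ rem) (h2 : l = true → rem - t * s = 0) : k s (rem - t * s) = true := by
  by_cases hs : s = 0
  · subst hs
    rw [decide_eq_true rfl] at hb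
    subst hb
    exact h
  · rw [decide_eq_false hs] at hb
    subst hb
    cases l with
    | false =>
      have := all1_spec (p := fun s => force (Nat.sub rem (Nat.mul t s)) (k s)) h hs
        ((Nat.le_div_iff_mul_le ht).2 (by rw [mul_comm]; exact h1))
      rwa [force_eq] at this
    | true =>
      have e : rem = t * s := by have := h2 rfl; omega
      have h3 : force (rem / t) (fun s => force (rem % t) (k s)) = true := h
      rw [force_eq, force_eq, e, Nat.mul_div_cancel_left _ ht, Nat.mul_mod_right] at h3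
      rwa [h2 rfl]

/-- a packed table -/
def T0 : ℕ := 0xa000a000a000a000a000a000a000a000a000a000a000a000a000a0009000900090009000900090009000900090009000900090009000900090009000900090009000900090009000900090009000900090009000900090009000900090009000900090009000900090009000900090009000900090009000900090009000900090009000900090009000900090009000900090009000900090009000800080008000800080008000800080008000800080008000800080008000800080008000800080008000800080008000800080008000800080008000800080008000800080008000800080008000800080008000800080008000800080008000800080008000800080008000800080008000800080008000800080008000800080008000800080008000800080008000800080008000800080008000800080008000800080008000700070007000700070007000700070007000700070007000700070007000700070007000700070007000700070007000700070007000700070007000700070007000700070007000700070007000700070007000700070007000700070007000700070007000700070007000700070007000700070007000700070007000700060006000600060006000600060006000600060006000600060006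

/-- a packed table -/
def T1 : ℕ := 0xb000b000b000b000b000b000b000a000a000a000a000a000a000a000b000a000a000a000a000a000a000a000a000a000a000a000a000a000a000a000a000a000a000a000a000a000900090009000900090009000900090009000900090009000900090009000900090009000900090009000900090009000900090009000900090009000900090009000900090008000800080008000800080008000900090009000900090009000900090009000900090009000900090009000900090009000900090009000800080008000800080008000800080008000800080008000800080008000800080008000800080008000800080008000800080008000800080008000800080008000800080008000800080008000800080008000700070007000700070007000700070007000700070007000700070007000700070007000700070007000800080008000800080008000800070007000700070007000700070007000700070007000700070007000700070007000700070007000700070007000700070007000700070007000700070007000700070007000600060006000600060006000600060006000600060006000600060006000600060006000600060006000500060006000600060006000600060005000500050005000500050005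

/-- a packed table -/
def T2 : ℕ := 0xc000c000c000c000c000c000b000c000b000b000b000b000b000b000b000b000b000b000b000b000b000a000a000a000a000a000a000a000a000a000a000a000a000a000a000a000a000a000a000a000a000a000a000a000a000a000a000a000a000a000a000a000a000a000a000a0009000900090009000900090009000900090009000900090009000900090009000900090009000900090008000900090009000900090009000900090009000900090009000900090009000800080008000800080008000900090009000900090009000800080008000800080008000800080008000800080008000800080008000800080008000800080008000800080008000800080008000800080008000700070007000700070007000800080008000800080008000700070007000700070007000700070007000700070007000700070007000800070007000700070007000700070007000700070007000700070007000700070007000700070007000700060006000600060006000600060006000600060006000600060006000600060006000600060006000600060006000600060006000600060006000600060006000600060006000500050005000500050005000500050005000500050005000500040005000400040004000400040004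

/-- a packed table -/
def T3 : ℕ := 0xe000e000e000e000e000d000d000d000d000c000c000c000c000c000d000d000c000c000c000c000c000c000c000c000c000c000b000b000b000b000b000b000b000b000b000b000b000b000b000b000b000b000b000b000b000b000a000a000a000a000a000a000a000a000a000a000a000a000a000a000a000a000a000a000a000a000900090009000900090009000900090009000900080008000a000a000a000a000a000a000a000a000a000a00090009000900090009000900090009000900090008000900090009000900090008000900090009000900090008000800080008000800080008000800080008000800080008000800080008000800080008000800070007000700070007000800070007000700070007000800070007000700070007000700070007000700070006000600060006000600060006000600060006000800080007000700070007000700070007000700070007000600060006000600060006000600060006000600060006000600060006000600060006000600060005000500050005000500050005000500050005000500050005000500050005000500050005000500040004000400040004000400040004000400040003000300040004000400040004000300030003000300020002000200020002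

/-- a packed table -/
def T4 : ℕ := 0xd000d000d000d000c000c000c000c000c000c000b000b000b000b000c000c000c000b000b000b000b000c000b000b000b000b000b000b000b000b000a000a000a000a000a000a000b000b000b000b000a000a000a000a000a000a000a000a000a000a000a000a0009000900090009000a000a000a000a000a000a0009000900090009000900090009000900080009000900090009000800080008000a000a000a000a000a000a000900090009000900090009000900090008000900090009000900080008000900090009000900080008000900090009000900080009000900090009000800080008000800080008000800080008000800080008000700070007000700080007000700070007000800080007000700070007000800080007000700070007000800070007000700070007000700070007000600060006000600060006000800080008000700070007000700080007000700070007000700070007000700060006000600060006000600070007000700070006000600060006000600060006000600060006000600060005000500050005000600060006000600060006000500050005000500050005000500050004000500050005000500040004000400050005000500050004000400040004000400040003000300030003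

/-- a packed table -/
def T5 : ℕ := 0xc000c000c000b000b000b000b000b000b000b000b000a000a000a000b000b000b000b000a000a000a000b000b000a000a000a000b000a000a000a000a000a000a000900090009000b000a000a000a000a000a000a000900090009000a000a000a0009000900090009000900090008000a000a000a0009000900090009000900090008000900090009000800080009000900090008000800080008000a000a000a000900090009000900090009000800090009000900080008000900090009000800080008000900090009000800080008000900090009000800080009000900090008000900090009000800080008000800080008000700070007000800070007000700080008000700070007000800080008000700070007000800080008000700070007000800080007000700070008000700070007000700070007000600060006000800080008000800070007000700080008000700070007000800070007000700070007000700060006000600080007000700070007000700070006000600060007000700070006000600060006000600060005000700070007000600060006000600060006000500060006000600050005000600060006000500050005000500060006000600050005000500050005000500050005000400040004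

/-- a packed table -/
def T6 : ℕ := 0xb000b000a000a000a000a000a000a000a000a000a000a00090009000a000a000a000a000a00090009000a000a000a00090009000a000a00090009000a00090009000900090008000a000a00090009000a00090009000900090008000a000900090009000900080009000900080008000a000900090009000900080009000900080008000900090008000800080009000900080008000800080008000a00090009000900090008000900090008000800090009000800080008000900090008000800080008000900090008000800080008000900090008000800080009000900080008000900090008000900090008000800070007000800070007000800080007000700080008000800070007000800080008000800070007000800080008000800070007000800080008000700070008000800070007000800070007000700070006000800080008000800080007000700080008000800070007000800080007000700080007000700070007000600080008000700070008000700070007000700060008000700070007000700060007000700060006000800070007000700070006000700070006000600070007000600060006000700070006000600060006000600070007000600060006000600060006000600060006000600050005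

/-- a packed table -/
def T7 : ℕ := 0xa00090009000900090009000900090009000900090009000900080009000900090009000900090008000900090009000900080009000900090008000900090008000900080008000900090009000800090009000800090008000800090009000800090008000800090008000800080009000900080009000800080009000800080008000900080008000800080009000800080008000800080008000900090008000900080008000900080008000800090008000800080008000900080008000800080008000900080008000800080008000900080008000800080009000800080008000900080008000900080009000700080007000800080007000800080008000700080008000800080007000800080008000800080007000800080008000800080007000800080008000800070008000800080007000800080007000800070007000800080008000800080008000700080008000800080007000800080008000700080008000700080007000700080008000800070008000800070008000700070008000800070008000700070008000700070007000800080007000800070007000800070007000700080007000700070007000800070007000700070007000700080007000700070007000700070007000700070007000700070006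


/-- the packed values of the roots -/
def VV (a b c d e f g h : ℕ) : ℕ :=
  Nat.add (Nat.add (Nat.add (Nat.mul a T0) (Nat.mul b T1)) (Nat.add (Nat.mul c T2) (Nat.mul d T3)))
    (Nat.add (Nat.add (Nat.mul e T4) (Nat.mul f T5)) (Nat.add (Nat.mul g T6) (Nat.mul h T7)))

/-- the offset -/
def off (N a b c d e f g h : ℕ) : ℕ := 8 * (N - 1) * (a + b + c + d + e + f + g + h)

/-- the value of a root -/
def vv (N V o r : ℕ) : ℕ := Nat.mod (Nat.add (Nat.mod (Nat.shiftRight V (Nat.mul 16 r)) 65536) o) N

/-- the histogram test -/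
noncomputable def hist (N m a b c d e f g h : ℕ) : Bool :=
  force (VV a b c d e f g h) fun V => force (off N a b c d e f g h) fun o =>
    Nat.beq (ssum (fun r => Nat.shiftLeft 1 (Nat.mul 8 (vv N V o r))) 240)
      (ssum (fun r => Nat.shiftLeft 1 (Nat.mul 8 (Nat.mod (Nat.mul m (vv N V o r)) N))) 240)

/-- the number of roots killed by a power -/
noncomputable def cn (N k a b c d e f g h : ℕ) : ℕ :=
  force (VV a b c d e f g h) fun V => force (off N a b c d e f g h) fun o =>
    ssum (fun r => Bool.rec 0 1 (Nat.beq (Nat.mod (Nat.mul k (vv N V o r)) N) 0)) 240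

/-- the quadratic form -/
def qf (a b c d e f g h : ℕ) : ℕ :=
  Nat.add (Nat.add (Nat.add (Nat.add (Nat.add (Nat.add (Nat.add (Nat.mul a (Nat.add (Nat.add (Nat.add (Nat.add
    (Nat.add (Nat.add (Nat.add (Nat.mul 2 a) (Nat.mul 5 b)) (Nat.mul 7 c)) (Nat.mul 10 d)) (Nat.mul 8 e)) (Nat.mul
    6 f)) (Nat.mul 4 g)) (Nat.mul 2 h))) (Nat.mul b (Nat.add (Nat.add (Nat.add (Nat.add (Nat.add (Nat.add (Nat.mul
    4 b) (Nat.mul 10 c)) (Nat.mul 15 d)) (Nat.mul 12 e)) (Nat.mul 9 f)) (Nat.mul 6 g)) (Nat.mul 3 h)))) (Nat.mul c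
    (Nat.add (Nat.add (Nat.add (Nat.add (Nat.add (Nat.mul 7 c) (Nat.mul 20 d)) (Nat.mul 16 e)) (Nat.mul 12 f))
    (Nat.mul 8 g)) (Nat.mul 4 h)))) (Nat.mul d (Nat.add (Nat.add (Nat.add (Nat.add (Nat.mul 15 d) (Nat.mul 24 e))
    (Nat.mul 18 f)) (Nat.mul 12 g)) (Nat.mul 6 h)))) (Nat.mul e (Nat.add (Nat.add (Nat.add (Nat.mul 10 e) (Nat.mul
    15 f)) (Nat.mul 10 g)) (Nat.mul 5 h)))) (Nat.mul f (Nat.add (Nat.add (Nat.mul 6 f) (Nat.mul 8 g)) (Nat.mul 4
    h)))) (Nat.mul g (Nat.add (Nat.mul 3 g) (Nat.mul 3 h)))) (Nat.mul h (Nat.mul 1 h))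

/-- indicator of a nonzero coordinate -/
def ind (b : Bool) : ℕ := Bool.rec 1 0 b

/-- the number of roots vanishing at a point with a given pattern of zeros -/
noncomputable def pcn (b0 b1 b2 b3 b4 b5 b6 b7 b8 : Bool) : ℕ :=
  force (2 * ind b0 + 3 * ind b1 + 4 * ind b2 + 6 * ind b3 + 5 * ind b4 + 4 * ind b5 + 3 * ind b6 + 2 * ind b7 + ind b8)
    fun N => cn N 1 (ind b0) (ind b1) (ind b2) (ind b3) (ind b4) (ind b5) (ind b6) (ind b7)

/-- the test at a point -/
noncomputable def leaf (N m cq : ℕ) (ok : ℕ → ℕ → ℕ → ℕ → ℕ → ℕ → ℕ → ℕ → Bool) (b8 : Bool)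
    (a b c d e f g h rem : ℕ) : Bool :=
  Bool.rec (Bool.rec true (Bool.rec true (ok a b c d e f g h) (hist N m a b c d e f g h))
    (Nat.beq (Nat.mod (Nat.mul cq (qf a b c d e f g h)) N) 0)) true (Bool.xor b8 (Nat.beq rem 0))

/-- the enumeration for one pattern -/
noncomputable def enumP (N m cq : ℕ) (ok : ℕ → ℕ → ℕ → ℕ → ℕ → ℕ → ℕ → ℕ → Bool) (b0 b1 b2 b3 b4 b5 b6 b7 b8 : Bool) :
    Bool :=
  rng b3 (b4 && b2 && b5 && b1 && b6 && b0 && b7 && b8) 6 N fun d r =>
  rng b4 (b2 && b5 && b1 && b6 && b0 && b7 && b8) 5 r fun e r =>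
  rng b2 (b5 && b1 && b6 && b0 && b7 && b8) 4 r fun c r =>
  rng b5 (b1 && b6 && b0 && b7 && b8) 4 r fun f r =>
  rng b1 (b6 && b0 && b7 && b8) 3 r fun b r =>
  rng b6 (b0 && b7 && b8) 3 r fun g r =>
  rng b0 (b7 && b8) 2 r fun a r =>
  rng b7 b8 2 r fun h r => leaf N m cq ok b8 a b c d e f g h r

/-- both values of a boolean -/
noncomputable def bo (p : Bool → Bool) : Bool := Bool.rec false (p false) (p true)

theorem bo_spec {p : Bool → Bool} (h : bo p = true) (b : Bool) : p b = true := by
  unfold bo at h
  cases h1 : p true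
  · rw [h1] at h; exact absurd h (by simp)
  · rw [h1] at h; cases b; exacts [h, h1]

/-- the enumeration -/
noncomputable def enum (N m cq : ℕ) (pc : ℕ → Bool) (ok : ℕ → ℕ → ℕ → ℕ → ℕ → ℕ → ℕ → ℕ → Bool) : Bool :=
  bo fun b0 => bo fun b1 => bo fun b2 => bo fun b3 => bo fun b4 => bo fun b5 => bo fun b6 => bo fun b7 => bo fun b8 =>
    Bool.rec true (enumP N m cq ok b0 b1 b2 b3 b4 b5 b6 b7 b8) (force (pcn b0 b1 b2 b3 b4 b5 b6 b7 b8) pc)

/-! ### correctness -/

/-- a coefficient of a root plus eight -/
def nib (r i : ℕ) : ℕ := tRE8 >>> (4 * (8 * r + i)) % 16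

/-- packing -/
noncomputable def pack (f : ℕ → ℕ) (n : ℕ) : ℕ := ssum (fun r => f r * 2 ^ (16 * r)) n

theorem pack_succ (f : ℕ → ℕ) (n : ℕ) : pack f (n + 1) = pack f n + f n * 2 ^ (16 * n) := rfl

theorem pack_lt {f : ℕ → ℕ} {n : ℕ} (h : ∀ r < n, f r < 65536) : pack f n < 2 ^ (16 * n) := by
  induction n with
  | zero => exact Nat.one_pos
  | succ n ih =>
    have h1 := ih fun r hr => h r (by omega)
    have h2 := h n (by omega)
    rw [pack_succ, mul_add, pow_add]
    generalize 2 ^ (16 * n) = P at *
    have h3 : f n * P ≤ 65535 * P := Nat.mul_le_mul_right _ (by omega)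
    omega

theorem pack_ext {f : ℕ → ℕ} {n : ℕ} (h : ∀ r < n, f r < 65536) {r : ℕ} (hr : r < n) :
    pack f n >>> (16 * r) % 65536 = f r := by
  rw [Nat.shiftRight_eq_div_pow]
  induction n with
  | zero => omega
  | succ n ih =>
    rw [pack_succ]
    rcases Nat.lt_or_ge r n with h1 | h1
    · obtain ⟨c, rfl⟩ := Nat.exists_eq_add_of_lt h1
      rw [← ih (fun r hr => h r (by omega)) h1, show 16 * (r + c + 1) = 16 * c + 16 + 16 * r by ring, pow_add, pow_add,
        ← mul_assoc, Nat.add_mul_div_right _ _ (by positivity), ← mul_assoc]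
      exact Nat.add_mul_mod_self_right _ _ _
    · obtain rfl : r = n := by omega
      rw [Nat.add_mul_div_right _ _ (by positivity), Nat.div_eq_of_lt (pack_lt fun r hr => h r (by omega)), zero_add,
        Nat.mod_eq_of_lt (h r hr)]

theorem T_eq : T0 = pack (nib · 0) 240 ∧ T1 = pack (nib · 1) 240 ∧ T2 = pack (nib · 2) 240 ∧ T3 = pack (nib · 3) 240 ∧
    T4 = pack (nib · 4) 240 ∧ T5 = pack (nib · 5) 240 ∧ T6 = pack (nib · 6) 240 ∧ T7 = pack (nib · 7) 240 := by
  decide +kernel

theorem VV_eq (a b c d e f g h : ℕ) : VV a b c d e f g h = pack (fun r => nib r 0 * a + nib r 1 * b + nib r 2 * c +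
    nib r 3 * d + nib r 4 * e + nib r 5 * f + nib r 6 * g + nib r 7 * h) 240 := by
  obtain ⟨h0, h1, h2, h3, h4, h5, h6, h7⟩ := T_eq
  simp only [VV, Nat.add_eq, Nat.mul_eq]
  rw [h0, h1, h2, h3, h4, h5, h6, h7]
  generalize 240 = n
  simp only [pack, ssum_eq, Finset.mul_sum, ← Finset.sum_add_distrib]
  exact Finset.sum_congr rfl fun r _ => by ring

theorem rt_eq (r : Fin 240) (i : Fin 8) : Φ.rt r i = (nib r i : ℤ) - 8 := rfl

theorem vv_def (N V o r : ℕ) : vv N V o r = (V >>> (16 * r) % 65536 + o) % N := rfl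

theorem hist_def (N m V o : ℕ) : Nat.beq (ssum (fun r => Nat.shiftLeft 1 (Nat.mul 8 (vv N V o r))) 240)
    (ssum (fun r => Nat.shiftLeft 1 (Nat.mul 8 (Nat.mod (Nat.mul m (vv N V o r)) N))) 240) = true ↔
    ∑ r : Fin 240, 1 <<< (8 * vv N V o r) = ∑ r : Fin 240, 1 <<< (8 * (m * vv N V o r % N)) := by
  rw [Nat.beq_eq, ssum_eq, ssum_eq, Finset.sum_range, Finset.sum_range]
  generalize vv N V o = v
  rfl

theorem cn_def (N k V o : ℕ) : ssum (fun r => Bool.rec 0 1 (Nat.beq (Nat.mod (Nat.mul k (vv N V o r)) N) 0)) 240 =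
    ∑ r : Fin 240, if k * vv N V o r % N = 0 then 1 else 0 := by
  rw [ssum_eq, Finset.sum_range]
  generalize vv N V o = v
  refine Finset.sum_congr rfl fun r _ => ?_
  change (Bool.rec 0 1 (Nat.beq (k * v r % N) 0) : ℕ) = _
  generalize k * v r % N = x
  cases x <;> rfl

/-- the values of the roots at a point -/
def vz (N : ℕ) (z : Fin 8 → ℕ) (r : ℕ) : ℕ :=
  vv N (VV (z 0) (z 1) (z 2) (z 3) (z 4) (z 5) (z 6) (z 7)) (off N (z 0) (z 1) (z 2) (z 3) (z 4) (z 5) (z 6) (z 7)) r

theorem vz_def (N : ℕ) (z : Fin 8 → ℕ) (r : ℕ) : vv N (VV (z 0) (z 1) (z 2) (z 3) (z 4) (z 5) (z 6) (z 7))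
    (off N (z 0) (z 1) (z 2) (z 3) (z 4) (z 5) (z 6) (z 7)) r = vz N z r := by rw [vz]

theorem vz_eq {N : ℕ} (hN : 0 < N) {z : Fin 8 → ℕ} (hz : ∀ i, z i ≤ 500) (r : Fin 240) :
    (vz N z r : ℤ) = Φ.ip (fun j => z j) r % N := by
  have h0 : ∀ r i, nib r i < 16 := fun r i => Nat.mod_lt _ (by decide)
  have h1 : ∀ r i j, nib r i * z j ≤ 15 * 500 := fun r i j => Nat.mul_le_mul (by have := h0 r i; omega) (hz j)
  rw [vz, vv_def, VV_eq, pack_ext (fun r _ => by
    have := h1 r 0 0; have := h1 r 1 1; have := h1 r 2 2; have := h1 r 3 3; have := h1 r 4 4; have := h1 r 5 5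
    have := h1 r 6 6; have := h1 r 7 7
    omega) r.2]
  obtain ⟨n, rfl⟩ := Nat.exists_eq_add_of_lt hN
  simp only [RootSys.ip, Fin.sum_univ_eight, rt_eq, off, Int.natCast_mod]
  refine Int.modEq_iff_dvd.2 ⟨-8 * (z 0 + z 1 + z 2 + z 3 + z 4 + z 5 + z 6 + z 7), ?_⟩
  simp only [zero_add, Nat.add_sub_cancel, Fin.coe_ofNat_eq_mod, Nat.reduceMod]
  push_cast
  ring

theorem vz_lt {N : ℕ} (hN : 0 < N) (z : Fin 8 → ℕ) (r : ℕ) : vz N z r < N := by
  rw [vz, vv_def]; exact Nat.mod_lt _ hN

/-- the point `y` is conjugate to `a y` modulo `N` -/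
def Stab (N : ℕ) (y : Fin 8 → ℤ) (a : ℕ) : Prop := ∃ w ∈ Φ.W, ∀ r, Φ.ip y (w r) ≡ a * Φ.ip y r [ZMOD N]

/-- the number of roots killed by a power -/
def cnt (N : ℕ) (y : Fin 8 → ℤ) (k : ℕ) : ℕ := (Finset.univ.filter fun r : Fin 240 => (N : ℤ) ∣ k * Φ.ip y r).card

theorem vz_perm {N : ℕ} (hN : 0 < N) {z : Fin 8 → ℕ} (hz : ∀ i, z i ≤ 500) {m : ℕ} {w : Equiv.Perm (Fin 240)}
    (h : ∀ r, Φ.ip (fun j => z j) (w r) ≡ m * Φ.ip (fun j => z j) r [ZMOD N]) (r : Fin 240) :
    vz N z (w r) = m * vz N z r % N := by
  have := h r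
  rw [Int.ModEq, ← vz_eq hN hz, Int.mul_emod, ← vz_eq hN hz] at this
  zify
  rw [this, Int.mul_emod, Int.emod_emod_of_dvd _ dvd_rfl, ← Int.mul_emod]

theorem hist_spec {N : ℕ} (hN : 0 < N) {z : Fin 8 → ℕ} (hz : ∀ i, z i ≤ 500) {m : ℕ} (h : Stab N (fun j => z j) m) :
    hist N m (z 0) (z 1) (z 2) (z 3) (z 4) (z 5) (z 6) (z 7) = true := by
  obtain ⟨w, -, h⟩ := h
  rw [hist, force_eq, force_eq, hist_def, ← Equiv.sum_comp w]
  simp only [vz_def, vz_perm hN hz h]

theorem cn_eq {N : ℕ} (hN : 0 < N) {z : Fin 8 → ℕ} (hz : ∀ i, z i ≤ 500) (k : ℕ) :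
    cn N k (z 0) (z 1) (z 2) (z 3) (z 4) (z 5) (z 6) (z 7) = cnt N (fun j => z j) k := by
  rw [cn, force_eq, force_eq, cn_def, cnt, Finset.card_filter]
  refine Finset.sum_congr rfl fun r _ => ?_
  have : (N : ℤ) ∣ k * Φ.ip (fun j => z j) r ↔ k * vz N z r % N = 0 := by
    rw [Int.dvd_iff_emod_eq_zero, Int.mul_emod, ← vz_eq hN hz, ← Nat.cast_inj (R := ℤ), Int.natCast_mod, Nat.cast_mul,
      Int.mul_emod k, Int.emod_eq_of_lt (a := vz N z r) (Nat.cast_nonneg _) (by exact_mod_cast vz_lt hN z r)]
    rfl
  simp only [vz_def, this]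

/-- the inverse of the Cartan matrix -/
def cinv : Fin 8 → Fin 8 → ℤ := ![![4, 5, 7, 10, 8, 6, 4, 2], ![5, 8, 10, 15, 12, 9, 6, 3], ![7, 10, 14, 20, 16, 12, 8, 4],
  ![10, 15, 20, 30, 24, 18, 12, 6], ![8, 12, 16, 24, 20, 15, 10, 5], ![6, 9, 12, 18, 15, 12, 8, 4],
  ![4, 6, 8, 12, 10, 8, 6, 3], ![2, 3, 4, 6, 5, 4, 3, 2]]

theorem sum_rt : ∀ i j : Fin 8, ((ssum (fun r => nib r i * nib r j) 240 : ℕ) : ℤ) = 60 * cinv i j + 64 * 240 ∧
    ssum (fun r => nib r i) 240 = 8 * 240 := by
  decide +kernel

theorem sum_rt' (i j : Fin 8) : ∑ r, Φ.rt r i * Φ.rt r j = 60 * cinv i j := by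
  have h1 := (sum_rt i j).1
  have h2 := congrArg (Nat.cast : ℕ → ℤ) (sum_rt i j).2
  have h3 := congrArg (Nat.cast : ℕ → ℤ) (sum_rt j j).2
  rw [ssum_eq, Finset.sum_range] at h1 h2 h3
  push_cast at h1 h2 h3
  have : ∀ r : Fin 240, Φ.rt r i * Φ.rt r j = (nib r i : ℤ) * nib r j - 8 * nib r i - 8 * nib r j + 64 := fun r => by
    rw [rt_eq, rt_eq]; ring
  simp only [this, Finset.sum_add_distrib, Finset.sum_sub_distrib, ← Finset.mul_sum, h1, h2, h3]
  simp

/-- the quadratic form on integer points -/
def qz (y : Fin 8 → ℤ) : ℤ := 2 * y 0 ^ 2 + 4 * y 1 ^ 2 + 7 * y 2 ^ 2 + 15 * y 3 ^ 2 + 10 * y 4 ^ 2 + 6 * y 5 ^ 2 +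
  3 * y 6 ^ 2 + y 7 ^ 2 + y 0 * (5 * y 1 + 7 * y 2 + 10 * y 3 + 8 * y 4 + 6 * y 5 + 4 * y 6 + 2 * y 7) +
  y 1 * (10 * y 2 + 15 * y 3 + 12 * y 4 + 9 * y 5 + 6 * y 6 + 3 * y 7) +
  y 2 * (20 * y 3 + 16 * y 4 + 12 * y 5 + 8 * y 6 + 4 * y 7) + y 3 * (24 * y 4 + 18 * y 5 + 12 * y 6 + 6 * y 7) +
  y 4 * (15 * y 5 + 10 * y 6 + 5 * y 7) + y 5 * (8 * y 6 + 4 * y 7) + y 6 * (3 * y 7)

theorem sum_sq (y : Fin 8 → ℤ) : ∑ r, Φ.ip y r ^ 2 = 120 * qz y := by
  have : ∑ r, Φ.ip y r ^ 2 = ∑ i, ∑ j, 60 * cinv i j * (y i * y j) := by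
    simp only [← sum_rt', Finset.sum_mul, RootSys.ip, sq, Finset.mul_sum]
    rw [Finset.sum_comm]
    refine Finset.sum_congr rfl fun i _ => ?_
    rw [Finset.sum_comm]
    exact Finset.sum_congr rfl fun j _ => Finset.sum_congr rfl fun r _ => by ring
  rw [this]
  simp only [Fin.sum_univ_eight, qz, cinv, Matrix.cons_val]
  ring

theorem qz_modEq {N : ℤ} {y y' : Fin 8 → ℤ} (h : ∀ j, y j ≡ y' j [ZMOD N]) : qz y ≡ qz y' [ZMOD N] := by
  unfold qz
  gcongr <;> exact h _

theorem qf_spec {N m cq : ℕ} (hq : (cq + 1) % N = m ^ 2 % N) {z : Fin 8 → ℕ} (h : Stab N (fun j => z j) m) :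
    cq * qf (z 0) (z 1) (z 2) (z 3) (z 4) (z 5) (z 6) (z 7) % N = 0 := by
  obtain ⟨w, hw, h⟩ := h
  have h0 : qz (fun j => z j) = qf (z 0) (z 1) (z 2) (z 3) (z 4) (z 5) (z 6) (z 7) := by
    simp only [qz, qf, Nat.add_eq, Nat.mul_eq]
    push_cast
    ring
  have h1 := sum_sq fun j => Φ.ip (fun j => z j) (w (Φ.simple j))
  simp only [ip_comp Φ hw] at h1
  rw [Equiv.sum_comp w fun r => Φ.ip (fun j => z j) r ^ 2, sum_sq, mul_right_inj' (by decide)] at h1
  have h3 := qz_modEq fun j => h (Φ.simple j)
  simp only [Φ.ip_simple] at h3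
  rw [← h1, show qz (fun j => m * (z j : ℤ)) = m ^ 2 * qz fun j => z j by simp only [qz]; ring, h0] at h3
  have h2 : ((cq : ℤ) + 1) ≡ m ^ 2 [ZMOD N] := by exact_mod_cast Int.natCast_modEq_iff.2 hq
  rw [← Nat.dvd_iff_mod_eq_zero, ← Int.natCast_dvd_natCast]
  have := dvd_add h3.dvd ((h2.symm.dvd).mul_right (qf (z 0) (z 1) (z 2) (z 3) (z 4) (z 5) (z 6) (z 7)))
  generalize qf (z 0) (z 1) (z 2) (z 3) (z 4) (z 5) (z 6) (z 7) = q at *
  rwa [show (m : ℤ) ^ 2 * q - q + (cq + 1 - m ^ 2) * q = (cq * q : ℕ) by push_cast; ring] at this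

/-- the highest root -/
def th : Fin 8 → ℤ := ![2, 3, 4, 6, 5, 4, 3, 2]

theorem rt_bound : ∀ r : Fin 240, (∀ i, 0 ≤ Φ.rt r i ∧ Φ.rt r i ≤ th i) ∨ ∀ i, -th i ≤ Φ.rt r i ∧ Φ.rt r i ≤ 0 := by
  decide +kernel

theorem sum_eq_zero_iff' {c : Fin 8 → ℤ} (hc : ∀ i, 0 ≤ c i) (z : Fin 8 → ℕ) :
    ∑ i, c i * z i = 0 ↔ ∀ i, c i ≠ 0 → z i = 0 := by
  rw [Finset.sum_eq_zero_iff_of_nonneg fun i _ => mul_nonneg (hc i) (Nat.cast_nonneg _)]
  simp only [Finset.mem_univ, true_imp_iff, mul_eq_zero, Nat.cast_eq_zero, or_iff_not_imp_left]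

theorem dvd_iff_pos {c : Fin 8 → ℤ} (hc : ∀ i, 0 ≤ c i ∧ c i ≤ th i) {N : ℕ} (z : Fin 8 → ℕ) (s : ℕ)
    (h : ∑ i, th i * z i + s = N) (hN : 0 < N) :
    (N : ℤ) ∣ ∑ i, c i * z i ↔ (∀ i, c i ≠ 0 → z i = 0) ∨ (s = 0 ∧ ∀ i, th i - c i ≠ 0 → z i = 0) := by
  rw [← sum_eq_zero_iff' (fun i => (hc i).1), ← sum_eq_zero_iff' fun i => sub_nonneg.2 (hc i).2]
  have h1 : 0 ≤ ∑ i, c i * z i := Finset.sum_nonneg fun i _ => mul_nonneg (hc i).1 (Nat.cast_nonneg _)
  have h2 : 0 ≤ ∑ i, (th i - c i) * z i :=
    Finset.sum_nonneg fun i _ => mul_nonneg (sub_nonneg.2 (hc i).2) (Nat.cast_nonneg _)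
  simp only [sub_mul, Finset.sum_sub_distrib] at h2 ⊢
  refine ⟨fun ⟨k, hk⟩ => ?_, fun h3 => ?_⟩
  · have : k = 0 ∨ k = 1 := by
      have h3 : (N : ℤ) * k ≤ N * 1 := by omega
      have h4 : (N : ℤ) * 0 ≤ N * k := by omega
      have := le_of_mul_le_mul_left h3 (by omega)
      have := le_of_mul_le_mul_left h4 (by omega)
      omega
    rcases this with rfl | rfl <;> omega
  · rcases h3 with h3 | h3
    · rw [h3]; simp
    · rw [show ∑ i, c i * z i = N by omega]

theorem cnt_pattern {N N' : ℕ} (z z' : Fin 8 → ℕ) (s s' : ℕ) (h : ∑ i, th i * z i + s = N) (hN : 0 < N)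
    (h' : ∑ i, th i * z' i + s' = N') (hN' : 0 < N') (e : ∀ i, z i = 0 ↔ z' i = 0) (e' : s = 0 ↔ s' = 0) :
    cnt N (fun j => z j) 1 = cnt N' (fun j => z' j) 1 := by
  unfold cnt
  congr 1
  refine Finset.filter_congr fun r _ => ?_
  simp only [Nat.cast_one, one_mul, RootSys.ip]
  rcases rt_bound r with hr | hr
  · rw [dvd_iff_pos hr z s h hN, dvd_iff_pos hr z' s' h' hN']
    simp only [e, e']
  · have hr' : ∀ i, 0 ≤ -Φ.rt r i ∧ -Φ.rt r i ≤ th i := fun i => by have := hr i; omega
    rw [← dvd_neg, ← dvd_neg (α := ℤ) (a := N'), ← Finset.sum_neg_distrib, ← Finset.sum_neg_distrib]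
    simp only [← neg_mul]
    rw [dvd_iff_pos hr' z s h hN, dvd_iff_pos hr' z' s' h' hN']
    simp only [e, e']

/-- the alcove -/
def Alc (N : ℕ) (z : Fin 8 → ℕ) : Prop := 2 * z 0 + 3 * z 1 + 4 * z 2 + 6 * z 3 + 5 * z 4 + 4 * z 5 + 3 * z 6 + 2 * z 7 ≤ N

theorem Alc.le {N : ℕ} {z : Fin 8 → ℕ} (h : Alc N z) (hN : N ≤ 1000) (i : Fin 8) : z i ≤ 500 := by
  unfold Alc at h
  fin_cases i <;> simp <;> omega

theorem ind_eq (x : ℕ) : ind (decide (x = 0)) = 0 ↔ x = 0 := by
  by_cases h : x = 0 <;> simp [h, ind]

theorem ind_le (b : Bool) : ind b ≤ 1 := by cases b <;> simp [ind]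

theorem pcn_eq {N : ℕ} (hN : 0 < N) {z : Fin 8 → ℕ} (h : Alc N z) :
    pcn (decide (z 0 = 0)) (decide (z 1 = 0)) (decide (z 2 = 0)) (decide (z 3 = 0)) (decide (z 4 = 0)) (decide (z 5 = 0))
      (decide (z 6 = 0)) (decide (z 7 = 0))
      (decide (N - (2 * z 0 + 3 * z 1 + 4 * z 2 + 6 * z 3 + 5 * z 4 + 4 * z 5 + 3 * z 6 + 2 * z 7) = 0)) =
      cnt N (fun j => z j) 1 := by
  unfold Alc at h
  rw [pcn, force_eq]
  generalize hs : N - (2 * z 0 + 3 * z 1 + 4 * z 2 + 6 * z 3 + 5 * z 4 + 4 * z 5 + 3 * z 6 + 2 * z 7) = s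
  have h0 : 0 < 2 * ind (decide (z 0 = 0)) + 3 * ind (decide (z 1 = 0)) + 4 * ind (decide (z 2 = 0)) +
      6 * ind (decide (z 3 = 0)) + 5 * ind (decide (z 4 = 0)) + 4 * ind (decide (z 5 = 0)) + 3 * ind (decide (z 6 = 0)) +
      2 * ind (decide (z 7 = 0)) + ind (decide (s = 0)) := by
    have := ind_eq (z 0); have := ind_eq (z 1); have := ind_eq (z 2); have := ind_eq (z 3); have := ind_eq (z 4)
    have := ind_eq (z 5); have := ind_eq (z 6); have := ind_eq (z 7); have := ind_eq s
    omega
  refine (cn_eq h0 (z := fun i => ind (decide (z i = 0))) (fun i => (ind_le _).trans (by decide)) 1).trans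
    (cnt_pattern _ z (ind (decide (s = 0))) s ?_ h0 ?_ hN (fun i => ind_eq _) (ind_eq _))
  · simp [Fin.sum_univ_eight, th]
  · simp [Fin.sum_univ_eight, th]; omega

theorem enum_spec {N m cq : ℕ} {pc : ℕ → Bool} {ok : ℕ → ℕ → ℕ → ℕ → ℕ → ℕ → ℕ → ℕ → Bool}
    (h : enum N m cq pc ok = true) (hN : 0 < N) (hN' : N ≤ 1000) (hq : (cq + 1) % N = m ^ 2 % N)
    {z : Fin 8 → ℕ} (hz : Alc N z) (hs : Stab N (fun j => z j) m) (hp : pc (cnt N (fun j => z j) 1) = true) :
    ok (z 0) (z 1) (z 2) (z 3) (z 4) (z 5) (z 6) (z 7) = true := by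
  have h1 := bo_spec (bo_spec (bo_spec (bo_spec (bo_spec (bo_spec (bo_spec (bo_spec (bo_spec h (decide (z 0 = 0)))
    (decide (z 1 = 0))) (decide (z 2 = 0))) (decide (z 3 = 0))) (decide (z 4 = 0))) (decide (z 5 = 0)))
    (decide (z 6 = 0))) (decide (z 7 = 0)))
    (decide (N - (2 * z 0 + 3 * z 1 + 4 * z 2 + 6 * z 3 + 5 * z 4 + 4 * z 5 + 3 * z 6 + 2 * z 7) = 0))
  rw [force_eq, pcn_eq hN hz, hp] at h1
  have h2 := hist_spec hN (hz.le hN') hs
  have h3 := qf_spec hq hs
  unfold Alc at hz
  have h4 := rng_spec (rng_spec (rng_spec (rng_spec (rng_spec (rng_spec (rng_spec (rng_spec h1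
    (by decide) rfl (by omega) (by simp only [Bool.and_eq_true, decide_eq_true_eq]; omega))
    (by decide) rfl (by omega) (by simp only [Bool.and_eq_true, decide_eq_true_eq]; omega))
    (by decide) rfl (by omega) (by simp only [Bool.and_eq_true, decide_eq_true_eq]; omega))
    (by decide) rfl (by omega) (by simp only [Bool.and_eq_true, decide_eq_true_eq]; omega))
    (by decide) rfl (by omega) (by simp only [Bool.and_eq_true, decide_eq_true_eq]; omega))
    (by decide) rfl (by omega) (by simp only [Bool.and_eq_true, decide_eq_true_eq]; omega))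
    (by decide) rfl (by omega) (by simp only [Bool.and_eq_true, decide_eq_true_eq]; omega))
    (by decide) rfl (by omega) (by simp only [decide_eq_true_eq]; omega)
  rw [leaf, h2, show Nat.mod (Nat.mul cq _) N = 0 from h3,
    show N - 6 * z 3 - 5 * z 4 - 4 * z 2 - 4 * z 5 - 3 * z 1 - 3 * z 6 - 2 * z 0 - 2 * z 7 =
      N - (2 * z 0 + 3 * z 1 + 4 * z 2 + 6 * z 3 + 5 * z 4 + 4 * z 5 + 3 * z 6 + 2 * z 7) by omega] at h4
  generalize N - (2 * z 0 + 3 * z 1 + 4 * z 2 + 6 * z 3 + 5 * z 4 + 4 * z 5 + 3 * z 6 + 2 * z 7) = s at h4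
  cases s <;> exact h4

end CfsgLib.E83
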